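import Cfsg.Agent.Lib.AxialPair.Majorana

/-!
# One Majorana axis and an arbitrary vector
-/

set_option autoImplicit false
set_option linter.unusedSectionVars false

namespace Cfsg.Agent.Sakuma

noncomputable section

open Cfsg.Axial Cfsg.Agent.AxialPair

universe u

variable {V : Type u} [AddCommGroup V] [Module ℝ V]
variable {mul : V →ₗ[ℝ] V →ₗ[ℝ] V} {B : LinearMap.BilinForm ℝ V}
variable {μ : V ≃ₗ[ℝ] V} {a : V}

/-- Every vector is a fixed vector plus a `1/32`-eigenvector negated by the involution. -/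
theorem split_pm (h : IsMajoranaPair mul B μ a) (x : V) :
    ∃ p q, μ p = p ∧ μ q = -q ∧ p ∈ eigenSum mul a {1, 0, 1 / 4} ∧
      mul a q = (1 / 32 : ℝ) • q ∧ x = p + q := by
  obtain ⟨-, -, ⟨⟨-, -, htop, -⟩, -⟩, hfix, hneg⟩ := h
  have hmem : x ∈ eigenSum mul a majoranaSpectrum := htop ▸ Submodule.mem_top
  have hset : majoranaSpectrum = ({1, 0, 1 / 4} : Set ℝ) ∪ {1 / 32} := by
    ext t; simp [majoranaSpectrum]; tauto
  rw [eigenSum, hset, iSup_union, iSup_singleton, Submodule.mem_sup] at hmem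
  obtain ⟨p, hp, q, hq, hpq⟩ := hmem
  exact ⟨p, q, hfix p hp, hneg q hq, hp, mem_eigen.1 hq, hpq.symm⟩

theorem invol (h : IsMajoranaPair mul B μ a) (x : V) : μ (μ x) = x := by
  obtain ⟨p, q, hp, hq, -, -, rfl⟩ := split_pm h x
  rw [map_add, hp, hq, map_add, hp, map_neg, hq, neg_neg]

/-- The involution is determined by the axis. -/
theorem pair_unique {μ' : V ≃ₗ[ℝ] V} (h : IsMajoranaPair mul B μ a)
    (h' : IsMajoranaPair mul B μ' a) : μ = μ' := by
  refine LinearEquiv.ext fun x => ?_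
  obtain ⟨p, q, hp, hq, hpm, hqm, rfl⟩ := split_pm h x
  have hp' : μ' p = p := h'.2.2.2.1 p hpm
  have hq' : μ' q = -q := h'.2.2.2.2 q (mem_eigen.2 hqm)
  rw [map_add, map_add, hp, hq, hp', hq']

theorem mul_negated (h : IsMajoranaPair mul B μ a) {x : V} (hx : μ x = -x) :
    mul a x = (1 / 32 : ℝ) • x := by
  obtain ⟨p, q, hp, hq, -, hqm, rfl⟩ := split_pm h x
  have hp0 : (2 : ℝ) • p = 0 := by
    rw [map_add, hp, hq] at hx
    linear_combination (norm := module) hx
  rw [(smul_eq_zero.1 hp0).resolve_left (by norm_num), zero_add]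
  exact hqm

theorem eigen_orth (hV : IsMajoranaAmbient mul B) {x y : V} {c d : ℝ}
    (hx : mul a x = c • x) (hy : mul a y = d • y) (hne : c ≠ d) : B x y = 0 := by
  obtain ⟨hcm, hBs, -, hassoc, -⟩ := hV
  have e : B x (mul a y) = B (mul x a) y := hassoc x a y
  rw [hy, hcm x a, hx, map_smul, map_smul, LinearMap.smul_apply, smul_eq_mul, smul_eq_mul] at e
  have : (c - d) * B x y = 0 := by linear_combination -e
  exact (mul_eq_zero.1 this).resolve_left (sub_ne_zero.2 hne)

theorem quarter_mul_quarter (hV : IsMajoranaAmbient mul B) (h : IsMajoranaPair mul B μ a)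
    (hn : B a a = 1) {v w : V} (hv : mul a v = (1 / 4 : ℝ) • v)
    (hw : mul a w = (1 / 4 : ℝ) • w) : mul a (mul v w) = (B v w / 4) • a := by
  have haa := idem_of_pair h
  obtain ⟨-, -, ⟨⟨-, -, -, hfus⟩, hprim⟩, -⟩ := h
  have hm := hfus (1 / 4) (by simp [majoranaSpectrum]) (1 / 4) (by simp [majoranaSpectrum]) v
    (mem_eigen.2 hv) w (mem_eigen.2 hw)
  rw [show monsterLaw (1 / 4 : ℝ) (1 / 32) (1 / 4) (1 / 4) = {1, 0} by norm_num [monsterLaw],
    eigenSum, iSup_pair, Submodule.mem_sup] at hm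
  obtain ⟨p, hp, z, hz, hpz⟩ := hm
  rw [hprim] at hp
  obtain ⟨k, rfl⟩ := Submodule.mem_span_singleton.1 hp
  rw [mem_eigen, zero_smul] at hz
  obtain ⟨-, -, -, hassoc, -⟩ := hV
  have o : B a z = 0 := by
    have := hassoc a a z
    rw [haa, hz, map_zero] at this
    exact this.symm
  have hk : k = B v w / 4 := by
    have := hassoc a v w
    rw [← hpz, hv] at this
    simp [hn, o] at this
    linarith
  rw [← hpz, map_add, map_smul, haa, hz, add_zero, hk]

/-- The invariant `σ` of an axis and a vector. -/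
def sg (mul : V →ₗ[ℝ] V →ₗ[ℝ] V) (a b : V) : V := mul a b - (1 / 32 : ℝ) • (a + b)

theorem mul_eq_sg (a b : V) : mul a b = sg mul a b + (1 / 32 : ℝ) • (a + b) := by
  simp [sg]

theorem sg_comm (hV : IsMajoranaAmbient mul B) (a b : V) : sg mul a b = sg mul b a := by
  rw [sg, sg, hV.1 a b, add_comm a b]

theorem sg_reflect (h : IsMajoranaPair mul B μ a) {b c : V} (hbc : μ b = c) :
    sg mul a c = sg mul a b := by
  have hneg : μ (b - c) = -(b - c) := by
    rw [map_sub, hbc, ← hbc, invol h]; abel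
  have e := mul_negated h hneg
  rw [map_sub] at e
  unfold sg
  linear_combination (norm := module) -e

/-- The components in the `0`- and `1/4`-eigenspaces of an axis. -/
def uvec (mul : V →ₗ[ℝ] V →ₗ[ℝ] V) (l : ℝ) (a b c : V) : V :=
  (-4 : ℝ) • sg mul a b + (3 * l - 1 / 8) • a + (7 / 16 : ℝ) • (b + c)

/-- See `uvec`. -/
def vvec (mul : V →ₗ[ℝ] V →ₗ[ℝ] V) (l : ℝ) (a b c : V) : V :=
  (4 : ℝ) • sg mul a b + (1 / 8 - 4 * l) • a + (1 / 16 : ℝ) • (b + c)

structure Comp (mul : V →ₗ[ℝ] V →ₗ[ℝ] V) (B : LinearMap.BilinForm ℝ V) (l : ℝ)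
    (a b c : V) : Prop where
  hu : mul a (uvec mul l a b c) = 0
  hv : mul a (vvec mul l a b c) = (1 / 4 : ℝ) • vvec mul l a b c
  ha : mul a (sg mul a b) = (3 * l / 4 - 25 / 1024) • a + (7 / 32 : ℝ) • sg mul a b +
    (7 / 2048 : ℝ) • (b + c)
  hBv : ∀ w, mul a w = (1 / 4 : ℝ) • w → B w b = B w (vvec mul l a b c)

theorem comp_of_pair (hV : IsMajoranaAmbient mul B) (h : IsMajoranaPair mul B μ a)
    (hn : B a a = 1) {b c : V} (hbc : μ b = c) : Comp mul B (B a b) a b c := by
  have hcb : μ c = b := by rw [← hbc, invol h]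
  have hfixed : μ ((1 / 2 : ℝ) • (b + c)) = (1 / 2 : ℝ) • (b + c) := by
    rw [map_smul, map_add, hbc, hcb, add_comm c b]
  have haa := idem_of_pair h
  obtain ⟨u, v, hu, hv, -, -, hdec⟩ := decompose hV h hn hfixed
  have hBac : B a c = B a b := by
    have e := h.2.1 a b
    have hμa : μ a = a := h.2.2.2.1 a (by
      refine Submodule.mem_iSup_of_mem 1 (Submodule.mem_iSup_of_mem (by simp) ?_)
      rw [mem_eigen, haa, one_smul])
    rwa [hbc, hμa] at e
  have hl : B a ((1 / 2 : ℝ) • (b + c)) = B a b := by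
    simp [map_add, hBac]; ring
  rw [hl] at hdec
  have hsg := sg_reflect h hbc
  have hab : mul a b = sg mul a b + (1 / 32 : ℝ) • (a + b) := mul_eq_sg a b
  have hac : mul a c = sg mul a b + (1 / 32 : ℝ) • (a + c) := by rw [← hsg]; exact mul_eq_sg a c
  have hs : (1 / 2 : ℝ) • (mul a b + mul a c) = B a b • a + (1 / 4 : ℝ) • v := by
    have e := congrArg (mul a) hdec
    simp only [map_add, map_smul, haa, hu, hv] at e
    linear_combination (norm := module) e
  rw [hab, hac] at hs
  have hvv : vvec mul (B a b) a b c = v := by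
    unfold vvec
    linear_combination (norm := module) (4 : ℝ) • hs
  have huu : uvec mul (B a b) a b c = u := by
    unfold uvec
    linear_combination (norm := module) (-4 : ℝ) • hs + hdec
  have hu' : mul a (uvec mul (B a b) a b c) = 0 := by rw [huu, hu]
  refine ⟨hu', by rw [hvv, hv], ?_, ?_⟩
  · simp only [uvec, map_add, map_smul, haa, hab, hac] at hu'
    linear_combination (norm := module) (-1 / 4 : ℝ) • hu'
  · intro w hw
    have hdiff : mul a ((1 / 2 : ℝ) • (b - c)) = (1 / 32 : ℝ) • ((1 / 2 : ℝ) • (b - c)) := by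
      refine mul_negated h ?_
      rw [map_smul, map_sub, hbc, hcb, ← neg_sub b c, smul_neg]
    have hb : b = B a b • a + u + v + (1 / 2 : ℝ) • (b - c) := by
      linear_combination (norm := module) hdec
    have o1 : B w a = 0 := eigen_orth hV hw (d := 1) (by rw [haa, one_smul]) (by norm_num)
    have o2 : B w u = 0 := eigen_orth hV hw (d := 0) (by rw [hu, zero_smul]) (by norm_num)
    have o3 : B w ((1 / 2 : ℝ) • (b - c)) = 0 := eigen_orth hV hw hdiff (by norm_num)
    rw [hvv]
    conv_lhs => rw [hb]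
    rw [map_add, map_add, map_add, map_smul, o1, o2, o3]
    simp

end

end Cfsg.Agent.Sakuma
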