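import Cfsg.Agent.Lib.Sakuma.Resurrect

/-!
# Second resurrection: the two polynomial equations
-/

set_option autoImplicit false
set_option linter.unusedSectionVars false
set_option maxHeartbeats 2000000

namespace Cfsg.Agent.Sakuma

open Cfsg.Axial Cfsg.Agent.AxialPair

noncomputable section

universe u

variable {V : Type u} [AddCommGroup V] [Module ℝ V]
variable {mul : V →ₗ[ℝ] V →ₗ[ℝ] V} {B : LinearMap.BilinForm ℝ V}

namespace Dih

variable (D : Dih mul B)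

theorem flip_Se : D.flip.S 0 2 = D.S 0 2 := by
  simpa [flip, S] using D.Szm

theorem flip_So : D.flip.S (-1) 1 = D.S (-1) 1 := by
  simpa [flip, S] using D.S_comm 1 (-1)

theorem e0_Se : mul (D.a 0) (D.S 0 2) = (3 * D.e / 4 - 25 / 1024) • D.a 0 +
    (7 / 32 : ℝ) • D.S 0 2 + (7 / 2048 : ℝ) • (D.a 2 + D.a (-2)) := by
  have h := D.a_S2 0
  rw [D.B_two] at h
  simpa using h

theorem e1_So : mul (D.a 1) (D.S (-1) 1) = (3 * D.e / 4 - 25 / 1024) • D.a 1 +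
    (7 / 32 : ℝ) • D.S (-1) 1 + (7 / 2048 : ℝ) • (D.a 3 + D.a (-1)) := by
  have h := D.a_S2 1
  rw [D.B_two] at h
  rw [D.So_step]
  simpa using h

theorem e1_Se : mul (D.a 1) (D.S 0 2) =
    ((-19 / 48) + (32 / 3) * D.lam : ℝ) • D.S1 + ((7 / 96) : ℝ) • D.S (-1) 1 +
    ((-19 / 3072) + (1 / 6) * D.lam : ℝ) • D.a 0 + ((7 / 6144) : ℝ) • D.a (-1) +
    ((-127 / 3072) + (-1 / 24) * D.e + (5 / 3) * D.lam + (-32 / 3) * D.lam ^ 2 : ℝ) • D.a 1 +
    ((-19 / 3072) + (1 / 6) * D.lam : ℝ) • D.a 2 + ((7 / 6144) : ℝ) • D.a 3 := by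
  have h := (D.shift 1).aSo
  rw [D.shift_S1, D.shift_lam, D.shift_e] at h
  simp only [shift, S] at h
  norm_num only at h
  simp only [show sg mul (D.a 1) (D.a 3) = D.S 1 3 from rfl,
    show sg mul (D.a 0) (D.a 2) = D.S 0 2 from rfl, ← D.So_step] at h
  linear_combination (norm := module) h

theorem p12 : mul (D.a 1) (D.a 2) = D.S1 + (1 / 32 : ℝ) • (D.a 1 + D.a 2) := by
  rw [D.mul_eq_S, D.S_adj (Or.inl (by ring))]

theorem p13 : mul (D.a 1) (D.a 3) = D.S (-1) 1 + (1 / 32 : ℝ) • (D.a 1 + D.a 3) := by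
  rw [D.mul_eq_S, D.So_step]

theorem p1n : mul (D.a 1) (D.a (-2)) =
    ((-491 / 21) + (-128 / 7) * D.e + (19456 / 21) * D.lam + (-32768 / 7) * D.lam ^ 2 : ℝ) • D.S1 +
    ((4 / 3) : ℝ) • D.S 0 2 + ((1) + (-256) * D.lam : ℝ) • D.S (-1) 1 +
    ((35 / 96) + (-56 / 3) * D.lam : ℝ) • D.a (-1) + ((-1 / 24) : ℝ) • D.a (-2) +
    ((-13 / 24) + (-4 / 3) * D.e + (88 / 3) * D.lam + (-1024 / 3) * D.lam ^ 2 : ℝ) • D.a 0 +
    ((1429 / 336) + (-48 / 7) * D.e + (-5864 / 21) * D.lam + (30720 / 7) * D.lam ^ 2 : ℝ) • D.a 1 +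
    ((-61 / 96) + (24) * D.lam : ℝ) • D.a 2 := by
  have h := congrArg (mul (D.a 1)) D.a_three
  simp only [map_add, map_smul, D.p13, D.p11, D.p10, D.p12, D.p1m, D.e1_So, D.e1_Se] at h
  simp only [D.a_three] at h
  linear_combination (norm := module) -h

theorem pm2 : mul (D.a (-1)) (D.a 2) =
    ((-491 / 21) + (-128 / 7) * D.e + (19456 / 21) * D.lam + (-32768 / 7) * D.lam ^ 2 : ℝ) • D.S1 +
    ((4 / 3) : ℝ) • D.S 0 2 + ((1) + (-256) * D.lam : ℝ) • D.S (-1) 1 +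
    ((35 / 96) + (-56 / 3) * D.lam : ℝ) • D.a 1 + ((-1 / 24) : ℝ) • D.a 2 +
    ((-13 / 24) + (-4 / 3) * D.e + (88 / 3) * D.lam + (-1024 / 3) * D.lam ^ 2 : ℝ) • D.a 0 +
    ((1429 / 336) + (-48 / 7) * D.e + (-5864 / 21) * D.lam + (30720 / 7) * D.lam ^ 2 : ℝ) • D.a (-1) +
    ((-61 / 96) + (24) * D.lam : ℝ) • D.a (-2) := by
  have h := D.flip.p1n
  rw [D.flip_S1, D.flip_lam, D.flip_e, D.flip_Se, D.flip_So] at h
  simpa [flip] using h

theorem pmn : mul (D.a (-1)) (D.a (-2)) = D.S1 + (1 / 32 : ℝ) • (D.a (-1) + D.a (-2)) := by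
  rw [D.mul_eq_S, D.S_adj (Or.inr (by ring))]

theorem em_Se : mul (D.a (-1)) (D.S 0 2) =
    ((-19 / 48) + (32 / 3) * D.lam : ℝ) • D.S1 + ((7 / 96) : ℝ) • D.S (-1) 1 +
    ((-19 / 3072) + (1 / 6) * D.lam : ℝ) • D.a 0 + ((7 / 6144) : ℝ) • D.a 1 +
    ((-127 / 3072) + (-1 / 24) * D.e + (5 / 3) * D.lam + (-32 / 3) * D.lam ^ 2 : ℝ) • D.a (-1) +
    ((-19 / 3072) + (1 / 6) * D.lam : ℝ) • D.a (-2) + ((7 / 6144) : ℝ) • D.a (-3) := by
  have h := D.flip.e1_Se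
  rw [D.flip_S1, D.flip_lam, D.flip_e, D.flip_Se, D.flip_So] at h
  simpa [flip] using h

theorem a_neg_three : D.a (-3) =
    ((-32) : ℝ) • D.S 0 2 + ((32) : ℝ) • D.S (-1) 1 +
    ((-6) + (256) * D.lam : ℝ) • D.a 1 + ((1) : ℝ) • D.a 2 +
    ((33 / 7) + (128 / 7) * D.e + (-2304 / 7) * D.lam + (32768 / 7) * D.lam ^ 2 : ℝ) • D.a 0 +
    ((-33 / 7) + (-128 / 7) * D.e + (2304 / 7) * D.lam + (-32768 / 7) * D.lam ^ 2 : ℝ) • D.a (-1) +
    ((6) + (-256) * D.lam : ℝ) • D.a (-2) := by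
  have h := D.flip.a_three
  rw [D.flip_lam, D.flip_e, D.flip_Se, D.flip_So] at h
  simpa [flip] using h

theorem s2 : mul D.S1 (D.a 2) = (3 * D.lam / 4 - 25 / 1024) • D.a 2 +
    (7 / 32 : ℝ) • D.S1 + (7 / 2048 : ℝ) • (D.a 3 + D.a 1) := by
  rw [D.comm]; simpa using D.a_S1 2

theorem sn : mul D.S1 (D.a (-2)) = (3 * D.lam / 4 - 25 / 1024) • D.a (-2) +
    (7 / 32 : ℝ) • D.S1 + (7 / 2048 : ℝ) • (D.a (-1) + D.a (-3)) := by
  rw [D.comm]; simpa using D.a_S1 (-2)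

/-- The inner product of third neighbours. -/
def f : ℝ := B (D.a 0) (D.a 3)

theorem f_a : B (D.a (-1)) (D.a 2) = D.f := by
  have h := D.B_refl 1 3 0
  norm_num only at h
  rw [h, D.Bsymm, f]

theorem f_b : B (D.a 1) (D.a (-2)) = D.f := by
  have h := D.B_refl 0 (-1) 2
  norm_num only at h
  rw [h, D.f_a]

theorem comp2 : Comp mul B D.e (D.a 0) (D.a 2) (D.a (-2)) := by
  simpa [e] using D.comp 0 2

theorem sg02 : sg mul (D.a 0) (D.a 2) = D.S 0 2 := rfl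

theorem B_v_v2 : B (vvec mul D.lam (D.a 0) (D.a 1) (D.a (-1)))
      (vvec mul D.e (D.a 0) (D.a 2) (D.a (-2))) =
    4 * ((31 * D.lam - 1) / 32) + (1 / 8 - 4 * D.lam) * D.e + (1 / 16) * (D.lam + D.f) := by
  rw [← D.comp2.hBv _ D.comp0.hv]
  simp only [vvec, sg01, map_add, map_smul, LinearMap.add_apply, LinearMap.smul_apply, D.B_S1_a,
    D.f_a, D.B_adj (i := 1) (j := 2) (Or.inl (by ring)), smul_eq_mul]
  rw [show B (D.a 0) (D.a 2) = D.e from rfl]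

theorem B_a_S_even (i : ℤ) : B (D.a i) (D.S i (i + 2)) = (31 * D.e - 1) / 32 := by
  rw [D.B_a_S, D.B_two]

theorem B0_So : B (D.a 0) (D.S (-1) 1) = (30 * D.lam + D.e - 1) / 32 := by
  unfold S sg
  rw [map_sub, map_smul, map_add, D.assoc, D.p0m, map_add, map_smul, map_add,
    LinearMap.add_apply, LinearMap.smul_apply, LinearMap.add_apply, D.B_S1_a, D.B_odd_pair,
    D.B_adj (i := 0) (j := -1) (Or.inr (by ring)), D.B_adj (i := 0) (j := 1) (Or.inl (by ring)),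
    smul_eq_mul, smul_eq_mul]
  ring

theorem B1_Se : B (D.a 1) (D.S 0 2) = (30 * D.lam + D.e - 1) / 32 := by
  have h := (D.shift 1).B0_So
  rw [D.shift_lam, D.shift_e] at h
  simpa [shift, S] using h

theorem B2_So : B (D.a 2) (D.S (-1) 1) = (30 * D.lam + D.e - 1) / 32 := by
  have h := (D.shift 2).B0_So
  rw [D.shift_lam, D.shift_e] at h
  rw [D.So_step]
  simpa [shift, S] using h

theorem B2_Se : B (D.a 2) (D.S 0 2) = (31 * D.e - 1) / 32 := by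
  rw [D.S_comm, D.B_a_S, D.Bsymm, show B (D.a 0) (D.a 2) = D.e from rfl]

theorem f_eq : D.f = (33 / 7) + (-33 / 7) * D.e + (-2169 / 7) * D.lam +
    (-1920 / 7) * D.lam * D.e + (36864 / 7) * D.lam ^ 2 + (-32768 / 7) * D.lam ^ 3 := by
  have h := congrArg (fun x => B (D.a 0) x) D.a_three
  have h02 : B (D.a 0) (D.a (-2)) = D.e := by
    simpa [e] using D.B_refl 0 0 2
  simp only [map_add, map_smul, D.B0_So, D.B_a_S, h02, D.unit,
    show B (D.a 0) (D.a 2) = D.e from rfl, show B (D.a 0) (D.a 3) = D.f from rfl,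
    D.B_adj (i := 0) (j := -1) (Or.inr (by ring)), D.B_adj (i := 0) (j := 1) (Or.inl (by ring)),
    smul_eq_mul] at h
  linear_combination h

theorem B22 : B (D.a 2) (D.a (-2)) = (156 / 7) + (-3) * D.e + (-128 / 7) * D.e ^ 2 +
    (-19840 / 7) * D.lam + (-640 / 7) * D.lam * D.e + (110592) * D.lam ^ 2 +
    (65536) * D.lam ^ 2 * D.e + (-9601024 / 7) * D.lam ^ 3 + (8388608 / 7) * D.lam ^ 4 := by
  have h := congrArg (fun x => B (D.a 2) x) D.a_three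
  simp only [map_add, map_smul, D.B2_So, D.B2_Se, D.unit,
    show B (D.a 2) (D.a (-1)) = D.f from (D.Bsymm _ _).trans D.f_a,
    show B (D.a 2) (D.a 0) = D.e from D.Bsymm _ _,
    D.B_adj (i := 2) (j := 1) (Or.inr (by ring)), D.B_adj (i := 2) (j := 3) (Or.inl (by ring)),
    smul_eq_mul, D.f_eq] at h
  linear_combination -h

theorem Qrel :
    ((4 / 7) + (-18 / 7) * D.e + (-208 / 7) * D.lam + (2560 / 7) * D.lam ^ 2 : ℝ) • D.S1 +
    ((-5 / 64) + (4) * D.lam : ℝ) • D.S 0 2 +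
    ((1 / 112) + (-9 / 224) * D.e + (-13 / 28) * D.lam + (40 / 7) * D.lam ^ 2 : ℝ) • D.a (-1) +
    ((-5 / 4096) + (1 / 16) * D.lam : ℝ) • D.a (-2) +
    ((221 / 14336) + (-1 / 448) * D.e + (-11 / 8) * D.lam + (-10 / 7) * D.lam * D.e +
      (288 / 7) * D.lam ^ 2 + (-2560 / 7) * D.lam ^ 3 : ℝ) • D.a 0 +
    ((1 / 112) + (-9 / 224) * D.e + (-13 / 28) * D.lam + (40 / 7) * D.lam ^ 2 : ℝ) • D.a 1 +
    ((-5 / 4096) + (1 / 16) * D.lam : ℝ) • D.a 2 = 0 := by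
  have h00 := mul_zero_zero (D.pair 0) D.comp0.hu D.comp2.hu
  have h44 := quarter_mul_quarter D.amb (D.pair 0) (D.unit 0) D.comp0.hv D.comp2.hv
  rw [D.B_v_v2, D.f_eq] at h44
  simp only [uvec, sg01, sg02, map_add, map_smul, LinearMap.add_apply, LinearMap.smul_apply,
    D.p00, D.p10, D.pm0, D.p12, D.pmn, D.p1n, D.pm2, D.p02, D.p0n, D.p01, D.p0m, D.s0', D.s2,
    D.sn, D.e0_Se, D.e1_Se, D.em_Se, D.a_three, D.a_neg_three, D.s0, D.aSo] at h00
  simp only [vvec, sg01, sg02, map_add, map_smul, LinearMap.add_apply, LinearMap.smul_apply,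
    D.p00, D.p10, D.pm0, D.p12, D.pmn, D.p1n, D.pm2, D.p02, D.p0n, D.p01, D.p0m, D.s0', D.s2,
    D.sn, D.e0_Se, D.e1_Se, D.em_Se, D.a_three, D.a_neg_three, D.s0, D.aSo] at h44
  linear_combination (norm := module) h00 - h44

theorem eq_one : (-351 / 28672) + (1503 / 28672) * D.e + (-9 / 224) * D.e ^ 2 +
    (675 / 448) * D.lam + (-1251 / 448) * D.lam * D.e + (-405 / 7) * D.lam ^ 2 +
    (-90 / 7) * D.lam ^ 2 * D.e + (5112 / 7) * D.lam ^ 3 + (-4608 / 7) * D.lam ^ 4 = 0 := by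
  have h := congrArg (fun x => B (D.a 1) x) D.Qrel
  simp only [map_add, map_smul, map_zero, D.B1_Se, D.f_b, D.unit,
    show B (D.a 1) (D.a (-1)) = D.e from (D.Bsymm _ _).trans D.B_odd_pair,
    show B (D.a 1) D.S1 = (31 * D.lam - 1) / 32 from (D.Bsymm _ _).trans (D.B_S1_a 1),
    D.B_adj (i := 1) (j := 0) (Or.inr (by ring)), D.B_adj (i := 1) (j := 2) (Or.inl (by ring)),
    smul_eq_mul, D.f_eq] at h
  linear_combination h

theorem eq_two : (-351 / 200704) + (-41697 / 200704) * D.e + (657 / 3136) * D.e ^ 2 +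
    (297 / 224) * D.lam + (18945 / 1568) * D.lam * D.e + (414 / 49) * D.lam * D.e ^ 2 +
    (-135) * D.lam ^ 2 + (-7632 / 49) * D.lam ^ 2 * D.e + (229752 / 49) * D.lam ^ 3 +
    (115200 / 49) * D.lam ^ 3 * D.e + (-2691072 / 49) * D.lam ^ 4 +
    (2359296 / 49) * D.lam ^ 5 = 0 := by
  have h := congrArg (fun x => B (D.a 2) x) D.Qrel
  simp only [map_add, map_smul, map_zero, D.B2_Se, D.B22, D.unit,
    show B (D.a 2) (D.a (-1)) = D.f from (D.Bsymm _ _).trans D.f_a,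
    show B (D.a 2) (D.a 0) = D.e from D.Bsymm _ _,
    show B (D.a 2) D.S1 = (31 * D.lam - 1) / 32 from (D.Bsymm _ _).trans (D.B_S1_a 2),
    D.B_adj (i := 2) (j := 1) (Or.inr (by ring)), smul_eq_mul, D.f_eq] at h
  linear_combination h

end Dih

end

end Cfsg.Agent.Sakuma
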