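import Cfsg.Agent.Lib.Sakuma.Axis

/-!
# Dihedral sequences of axes
-/

set_option autoImplicit false
set_option linter.unusedSectionVars false

namespace Cfsg.Agent.Sakuma

open Cfsg.Axial Cfsg.Agent.AxialPair

noncomputable section

universe u

variable {V : Type u} [AddCommGroup V] [Module ℝ V]
variable {mul : V →ₗ[ℝ] V →ₗ[ℝ] V} {B : LinearMap.BilinForm ℝ V}

/-- A sequence of axes permuted as the points of a dihedral orbit by their involutions. -/
structure Dih (mul : V →ₗ[ℝ] V →ₗ[ℝ] V) (B : LinearMap.BilinForm ℝ V) where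
  a : ℤ → V
  m : ℤ → V ≃ₗ[ℝ] V
  amb : IsMajoranaAmbient mul B
  pair : ∀ i, IsMajoranaPair mul B (m i) (a i)
  unit : ∀ i, B (a i) (a i) = 1
  refl : ∀ i j, m i (a j) = a (2 * i - j)

namespace Dih

variable (D : Dih mul B)

/-- Translation of the index. -/
def shift (k : ℤ) : Dih mul B where
  a j := D.a (k + j)
  m j := D.m (k + j)
  amb := D.amb
  pair j := D.pair _
  unit j := D.unit _
  refl i j := by rw [D.refl]; ring_nf

/-- Reversal of the index. -/
def flip : Dih mul B where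
  a j := D.a (-j)
  m j := D.m (-j)
  amb := D.amb
  pair j := D.pair _
  unit j := D.unit _
  refl i j := by rw [D.refl]; ring_nf

/-- The vector `σ` of two members. -/
def S (i j : ℤ) : V := sg mul (D.a i) (D.a j)

/-- The inner product of neighbours. -/
def lam : ℝ := B (D.a 0) (D.a 1)

theorem idem (i : ℤ) : mul (D.a i) (D.a i) = D.a i := idem_of_pair (D.pair i)

include D in
theorem comm (u v : V) : mul u v = mul v u := D.amb.1 u v

include D in
theorem Bsymm (u v : V) : B u v = B v u := D.amb.2.1 u v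

include D in
theorem assoc (u v w : V) : B u (mul v w) = B (mul u v) w := D.amb.2.2.2.1 u v w

theorem B_refl (i j k : ℤ) : B (D.a (2 * i - j)) (D.a (2 * i - k)) = B (D.a j) (D.a k) := by
  rw [← D.refl, ← D.refl, (D.pair i).2.1]

theorem B_step (d i : ℤ) : B (D.a (i + 2)) (D.a (i + 2 + d)) = B (D.a i) (D.a (i + d)) := by
  have e3 := D.B_refl (i + 2) (i + 2) (i + 2 - d)
  have e4 := D.B_refl (i + 1) (i + 2 - d) (i + 2)
  rw [show 2 * (i + 2) - (i + 2) = i + 2 by ring,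
    show 2 * (i + 2) - (i + 2 - d) = i + 2 + d by ring] at e3
  rw [show 2 * (i + 1) - (i + 2 - d) = i + d by ring, show 2 * (i + 1) - (i + 2) = i by ring] at e4
  rw [e3, D.Bsymm (D.a i), e4, D.Bsymm]

theorem B_one (i : ℤ) : B (D.a i) (D.a (i + 1)) = D.lam := by
  induction i using Int.induction_on with
  | zero => simp [lam]
  | succ n ih =>
    have e := D.B_refl ((n : ℤ) + 1) n ((n : ℤ) + 1)
    rw [show 2 * ((n : ℤ) + 1) - n = (n : ℤ) + 1 + 1 by ring,
      show 2 * ((n : ℤ) + 1) - ((n : ℤ) + 1) = (n : ℤ) + 1 by ring, D.Bsymm] at e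
    rw [e, ih]
  | pred n ih =>
    have e := D.B_refl (-(n : ℤ)) (-(n : ℤ)) (-(n : ℤ) + 1)
    rw [show 2 * (-(n : ℤ)) - -(n : ℤ) = -(n : ℤ) by ring,
      show 2 * (-(n : ℤ)) - (-(n : ℤ) + 1) = -(n : ℤ) - 1 by ring, ih] at e
    rw [show -(n : ℤ) - 1 + 1 = -(n : ℤ) by ring, D.Bsymm, e]

theorem B_adj {i j : ℤ} (h : j = i + 1 ∨ i = j + 1) : B (D.a i) (D.a j) = D.lam := by
  rcases h with rfl | rfl
  · exact D.B_one i
  · rw [D.Bsymm]; exact D.B_one j

theorem S_comm (i j : ℤ) : D.S i j = D.S j i := sg_comm D.amb _ _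

theorem S_refl (i j : ℤ) : D.S i (2 * i - j) = D.S i j := sg_reflect (D.pair i) (D.refl i j)

theorem mul_eq_S (i j : ℤ) :
    mul (D.a i) (D.a j) = D.S i j + (1 / 32 : ℝ) • (D.a i + D.a j) := mul_eq_sg _ _

theorem comp (i d : ℤ) : Comp mul B (B (D.a i) (D.a (i + d))) (D.a i) (D.a (i + d)) (D.a (i - d)) :=
  comp_of_pair D.amb (D.pair i) (D.unit i) (by rw [D.refl]; ring_nf)

/-- The neighbour invariant. -/
def S1 : V := D.S 0 1

theorem S_one (i : ℤ) : D.S i (i + 1) = D.S1 := by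
  induction i using Int.induction_on with
  | zero => simp [S1]
  | succ n ih =>
    have e := D.S_refl ((n : ℤ) + 1) n
    rw [show 2 * ((n : ℤ) + 1) - n = (n : ℤ) + 1 + 1 by ring, D.S_comm _ (n : ℤ)] at e
    rw [e, ih]
  | pred n ih =>
    have e := D.S_refl (-(n : ℤ)) (-(n : ℤ) + 1)
    rw [show 2 * (-(n : ℤ)) - (-(n : ℤ) + 1) = -(n : ℤ) - 1 by ring, ih, D.S_comm] at e
    rw [show -(n : ℤ) - 1 + 1 = -(n : ℤ) by ring, e]

theorem S_adj {i j : ℤ} (h : j = i + 1 ∨ i = j + 1) : D.S i j = D.S1 := by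
  rcases h with rfl | rfl
  · exact D.S_one i
  · rw [D.S_comm]; exact D.S_one j

theorem S_two_step (i : ℤ) : D.S (i + 2) (i + 4) = D.S i (i + 2) := by
  have e := D.S_refl (i + 2) i
  rw [show 2 * (i + 2) - i = i + 4 by ring, D.S_comm _ i] at e
  exact e

theorem shift_lam (k : ℤ) : (D.shift k).lam = D.lam := by
  simpa [lam, shift] using D.B_one k

theorem flip_lam : D.flip.lam = D.lam := D.B_adj (Or.inr (by ring))

theorem shift_S1 (k : ℤ) : (D.shift k).S1 = D.S1 := by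
  simpa [S1, S, shift] using D.S_one k

theorem flip_S1 : D.flip.S1 = D.S1 := D.S_adj (Or.inr (by ring))

theorem a_S1 (i : ℤ) : mul (D.a i) D.S1 = (3 * D.lam / 4 - 25 / 1024) • D.a i +
    (7 / 32 : ℝ) • D.S1 + (7 / 2048 : ℝ) • (D.a (i + 1) + D.a (i - 1)) := by
  have e := (D.comp i 1).ha
  rw [D.B_one] at e
  have h1 : sg mul (D.a i) (D.a (i + 1)) = D.S1 := D.S_one i
  rw [h1] at e
  exact e

theorem a_S2 (i : ℤ) : mul (D.a i) (D.S i (i + 2)) =
    (3 * B (D.a i) (D.a (i + 2)) / 4 - 25 / 1024) • D.a i +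
    (7 / 32 : ℝ) • D.S i (i + 2) + (7 / 2048 : ℝ) • (D.a (i + 2) + D.a (i - 2)) :=
  (D.comp i 2).ha

theorem B_a_S (i : ℤ) (j : ℤ) : B (D.a i) (D.S i j) = (31 * B (D.a i) (D.a j) - 1) / 32 := by
  unfold S sg
  rw [map_sub, map_smul, map_add, D.assoc, D.idem, D.unit, smul_eq_mul]
  ring

end Dih

end

end Cfsg.Agent.Sakuma
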