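import Cfsg.Agent.Lib.Sakuma.Periods

/-!
# The dihedral sequence of two involutions
-/

set_option autoImplicit false

namespace Cfsg.Agent.Sakuma

open Cfsg.Axial Cfsg.Agent.AxialPair

noncomputable section

universe u

variable {V : Type u} [AddCommGroup V] [Module ℝ V]
variable {mul : V →ₗ[ℝ] V →ₗ[ℝ] V} {B : LinearMap.BilinForm ℝ V}

section GroupFacts

variable {X : Type u} [Group X] {s t : X}

theorem conj_pow_left (hs : s * s = 1) (ht : t * t = 1) (k : ℤ) :
    s * (t * s) ^ k = (t * s) ^ (-k) * s := by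
  have hsi : s⁻¹ = s := inv_eq_of_mul_eq_one_right hs
  have hti : t⁻¹ = t := inv_eq_of_mul_eq_one_right ht
  have h : SemiconjBy s (t * s) (t * s)⁻¹ := by
    unfold SemiconjBy
    rw [mul_inv_rev, hsi, hti]
    group
  have := (h.zpow_right k).eq
  rw [inv_zpow', ] at this
  exact this

theorem conj_pow_right (hs : s * s = 1) (ht : t * t = 1) (k : ℤ) :
    t * (t * s) ^ k = (t * s) ^ (-k) * t := by
  have hsi : s⁻¹ = s := inv_eq_of_mul_eq_one_right hs
  have hti : t⁻¹ = t := inv_eq_of_mul_eq_one_right ht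
  have h : SemiconjBy t (t * s) (t * s)⁻¹ := by
    unfold SemiconjBy
    rw [mul_inv_rev, hsi, hti]
    calc t * (t * s) = (t * t) * s := (mul_assoc _ _ _).symm
      _ = s * (t * t) := by rw [ht, one_mul, mul_one]
      _ = s * t * t := (mul_assoc _ _ _).symm
  have := (h.zpow_right k).eq
  rw [inv_zpow'] at this
  exact this

end GroupFacts

theorem pow_preserves {σ : V ≃ₗ[ℝ] V}
    (h1 : ∀ u v, σ (mul u v) = mul (σ u) (σ v)) (h2 : ∀ u v, B (σ u) (σ v) = B u v) (k : ℤ) :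
    (∀ u v, (σ ^ k) (mul u v) = mul ((σ ^ k) u) ((σ ^ k) v)) ∧
      ∀ u v, B ((σ ^ k) u) ((σ ^ k) v) = B u v := by
  induction k using Int.induction_on with
  | zero => exact ⟨fun u v => rfl, fun u v => rfl⟩
  | succ n ih =>
    rw [zpow_add_one]
    exact ⟨fun u v => by simp only [LinearEquiv.mul_apply, h1, ih.1],
      fun u v => by simp only [LinearEquiv.mul_apply, ih.2, h2]⟩
  | pred n ih =>
    rw [zpow_sub_one]
    have hi : ∀ x, σ (σ⁻¹ x) = x := fun x => σ.apply_symm_apply x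
    refine ⟨fun u v => ?_, fun u v => ?_⟩
    · simp only [LinearEquiv.mul_apply]
      rw [← ih.1]
      congr 1
      apply σ.injective
      rw [h1, hi, hi, hi]
    · simp only [LinearEquiv.mul_apply, ih.2]
      rw [← h2, hi, hi]

theorem pair_fix {μ : V ≃ₗ[ℝ] V} {a : V} (h : IsMajoranaPair mul B μ a) : μ a = a :=
  h.2.2.2.1 a (Submodule.mem_iSup_of_mem 1 (Submodule.mem_iSup_of_mem (by simp)
    (mem_eigen.2 (by rw [idem_of_pair h, one_smul]))))

theorem pair_sq {μ : V ≃ₗ[ℝ] V} {a : V} (h : IsMajoranaPair mul B μ a) : μ * μ = 1 :=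
  LinearEquiv.ext fun x => invol h x

/-- The product of two Majorana involutions has order at most six. -/
theorem pow_eq_one (hV : IsMajoranaAmbient mul B) {μ₀ μ₁ : V ≃ₗ[ℝ] V} {a₀ a₁ : V}
    (h₀ : IsMajoranaPair mul B μ₀ a₀) (h₁ : IsMajoranaPair mul B μ₁ a₁)
    (hn₀ : B a₀ a₀ = 1) (hn₁ : B a₁ a₁ = 1) :
    ∃ n : ℕ, 1 ≤ n ∧ n ≤ 6 ∧ (μ₀ * μ₁) ^ n = 1 := by
  have hs := pair_sq h₀
  have ht := pair_sq h₁
  set r : V ≃ₗ[ℝ] V := μ₁ * μ₀ with hr
  have hr1 : ∀ u v, r (mul u v) = mul (r u) (r v) := fun u v => by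
    simp only [hr, LinearEquiv.mul_apply, h₀.1, h₁.1]
  have hr2 : ∀ u v, B (r u) (r v) = B u v := fun u v => by
    simp only [hr, LinearEquiv.mul_apply, h₀.2.1, h₁.2.1]
  let a : ℤ → V := fun j => (r ^ (j / 2)) (if j % 2 = 0 then a₀ else a₁)
  let m : ℤ → V ≃ₗ[ℝ] V := fun j =>
    r ^ (j / 2) * (if j % 2 = 0 then μ₀ else μ₁) * (r ^ (j / 2))⁻¹
  have hpair : ∀ i, IsMajoranaPair mul B (m i) (a i) := fun i => by
    refine pair_map (pow_preserves hr1 hr2 _).1 (pow_preserves hr1 hr2 _).2 ?_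
    split_ifs
    · exact h₀
    · exact h₁
  have hunit : ∀ i, B (a i) (a i) = 1 := fun i => by
    simp only [a, (pow_preserves hr1 hr2 _).2]
    split_ifs
    · exact hn₀
    · exact hn₁
  have f0 : μ₀ a₀ = a₀ := pair_fix h₀
  have f1 : μ₁ a₁ = a₁ := pair_fix h₁
  have g0 : μ₁ a₀ = r a₀ := by simp only [hr, LinearEquiv.mul_apply, f0]
  have g1 : μ₀ a₁ = (r ^ (-1 : ℤ)) a₁ := by
    have : (r ^ (-1 : ℤ)) = μ₀ * μ₁ := by
      rw [zpow_neg_one, hr, mul_inv_rev, inv_eq_of_mul_eq_one_right hs,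
        inv_eq_of_mul_eq_one_right ht]
    rw [this, LinearEquiv.mul_apply, f1]
  have happ : ∀ (x y : ℤ) (v : V), (r ^ x) ((r ^ y) v) = (r ^ (x + y)) v := fun x y v => by
    rw [zpow_add, LinearEquiv.mul_apply]
  have c0 : ∀ (k : ℤ) (v : V), μ₀ ((r ^ k) v) = (r ^ (-k)) (μ₀ v) := fun k v => by
    have := congrArg (fun g : V ≃ₗ[ℝ] V => g v) (conj_pow_left hs ht k)
    simpa only [LinearEquiv.mul_apply] using this
  have c1 : ∀ (k : ℤ) (v : V), μ₁ ((r ^ k) v) = (r ^ (-k)) (μ₁ v) := fun k v => by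
    have := congrArg (fun g : V ≃ₗ[ℝ] V => g v) (conj_pow_right hs ht k)
    simpa only [LinearEquiv.mul_apply] using this
  have hrefl : ∀ i j, m i (a j) = a (2 * i - j) := by
    intro i j
    simp only [m, a, LinearEquiv.mul_apply, ← zpow_neg]
    rw [happ]
    rcases Int.emod_two_eq_zero_or_one i with hi | hi <;>
      rcases Int.emod_two_eq_zero_or_one j with hj | hj
    · simp only [hi, hj, if_true]
      rw [c0, f0, happ, if_pos (by omega)]
      congr 2
      omega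
    · simp only [hi, hj, if_true, if_neg one_ne_zero]
      rw [c0, g1, happ, happ, if_neg (by omega)]
      congr 2
      omega
    · simp only [hi, hj, if_true, if_neg one_ne_zero]
      rw [c1, g0, if_pos (by omega)]
      rw [show r a₀ = (r ^ (1 : ℤ)) a₀ by rw [zpow_one], happ, happ]
      congr 2
      omega
    · simp only [hi, hj, if_neg one_ne_zero]
      rw [c1, f1, happ, if_neg (by omega)]
      congr 2
      omega
  let D : Dih mul B := ⟨a, m, hV, hpair, hunit, hrefl⟩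
  obtain ⟨n, h1, h6, hn⟩ := D.exists_repeat
  refine ⟨n, h1, h6, ?_⟩
  have hm : m n = m 0 := by
    have h' : IsMajoranaPair mul B (m n) (a 0) := by
      have := hpair (n : ℤ)
      rwa [show a (n : ℤ) = a 0 from hn] at this
    exact pair_unique h' (hpair 0)
  have hm0 : m 0 = μ₀ := by simp [m]
  rw [hm0] at hm
  have hinv : μ₀ * μ₁ = r⁻¹ := by
    rw [hr, mul_inv_rev, inv_eq_of_mul_eq_one_right hs, inv_eq_of_mul_eq_one_right ht]
  rw [hinv, inv_pow, inv_eq_one]
  have key : r ^ (n : ℤ) = 1 := by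
    simp only [m] at hm
    rcases Int.emod_two_eq_zero_or_one (n : ℤ) with hp | hp
    · rw [if_pos hp, ← zpow_neg, mul_assoc, conj_pow_left hs ht, neg_neg, ← mul_assoc,
        ← zpow_add] at hm
      have := mul_right_cancel (b := μ₀) (hm.trans (one_mul μ₀).symm)
      rwa [show (n : ℤ) / 2 + (n : ℤ) / 2 = (n : ℤ) by omega] at this
    · rw [if_neg (by omega), ← zpow_neg, mul_assoc, conj_pow_right hs ht, neg_neg, ← mul_assoc,
        ← zpow_add] at hm
      have e : r ^ ((n : ℤ) / 2 + (n : ℤ) / 2) * r = 1 := by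
        rw [hr, ← mul_assoc, ← hr, hm, hs]
      rw [← zpow_add_one] at e
      rwa [show (n : ℤ) / 2 + (n : ℤ) / 2 + 1 = (n : ℤ) by omega] at e
  simpa using key

end

end Cfsg.Agent.Sakuma
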