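import Cfsg.Agent.Lib.Sakuma.Closed

/-!
# The nine possible pairs of inner products and the periods
-/

set_option autoImplicit false
set_option linter.unusedSectionVars false
set_option maxHeartbeats 1000000

namespace Cfsg.Agent.Sakuma

open Cfsg.Axial Cfsg.Agent.AxialPair

noncomputable section

universe u

variable {V : Type u} [AddCommGroup V] [Module ℝ V]
variable {mul : V →ₗ[ℝ] V →ₗ[ℝ] V} {B : LinearMap.BilinForm ℝ V}

namespace Dih

variable (D : Dih mul B)

theorem lam_cases : D.lam = 1 ∨ D.lam = 1 / 8 ∨ D.lam = 0 ∨ D.lam = 13 / 256 ∨ D.lam = 1 / 64 ∨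
    D.lam = 1 / 32 ∨ D.lam = 3 / 128 ∨ D.lam = 5 / 256 := by
  have h : (D.lam - 1) * (D.lam - 1 / 8) * D.lam * (D.lam - 13 / 256) *
      ((D.lam - 1 / 64) * (D.lam - 1 / 64)) * (D.lam - 1 / 32) * (D.lam - 3 / 128) *
      (D.lam - 5 / 256) = 0 := by
    linear_combination (-2401 / 96745881600 : ℝ) * ((((-155659725 / 281974669312 : ℝ) + (-414994185 / 4405854208 : ℝ) * D.lam + (134839485 / 34420736 : ℝ) * D.lam ^ 2 + (74740725 / 268912 : ℝ) * D.lam ^ 3 + (2012040 / 16807 : ℝ) * D.lam ^ 4) * D.e + ((-83160675 / 18046378835968 : ℝ) + (20542217625 / 281974669312 : ℝ) * D.lam + (-20409466725 / 2202927104 : ℝ) * D.lam ^ 2 + (6298570935 / 17210368 : ℝ) * D.lam ^ 3 + (-826806285 / 134456 : ℝ) * D.lam ^ 4 + (1779343200 / 16807 : ℝ) * D.lam ^ 5 + (44789760 / 16807 : ℝ) * D.lam ^ 6))) * D.eq_one +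
      -((-2401 / 96745881600 : ℝ) * ((((2132325 / 20141047808 : ℝ) + (4341195 / 314703872 : ℝ) * D.lam + (-32805 / 25088 : ℝ) * D.lam ^ 2 + (-10935 / 19208 : ℝ) * D.lam ^ 3) * D.e + ((-83160675 / 2578054119424 : ℝ) + (-429144075 / 20141047808 : ℝ) * D.lam + (1820294775 / 629407744 : ℝ) * D.lam ^ 2 + (-392380605 / 4917248 : ℝ) * D.lam ^ 3 + (-3357045 / 5488 : ℝ) * D.lam ^ 4 + (-87480 / 2401 : ℝ) * D.lam ^ 5)))) * D.eq_two
  simp only [mul_eq_zero, sub_eq_zero] at h
  tauto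

theorem four_step (i : ℤ) : D.a (i + 4) =
    (-(1 + (256 * D.lam - 6))) • (D.a (i + 3) - D.a (i - 1)) +
    (-((256 * D.lam - 6) + ((33 / 7) + (128 / 7) * D.e + (-2304 / 7) * D.lam +
      (32768 / 7) * D.lam ^ 2))) • (D.a (i + 2) - D.a i) + D.a (i - 2) := by
  have h0 := (D.shift i).a_three
  have h1 := (D.shift (i + 1)).a_three
  rw [D.shift_lam, D.shift_e] at h0 h1
  simp only [shift, S] at h0 h1
  simp only [add_zero, show i + -1 = i - 1 by ring, show i + -2 = i - 2 by ring,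
    show i + 1 + 3 = i + 4 by ring, show i + 1 + 2 = i + 3 by ring,
    show i + 1 + 1 = i + 2 by ring, show i + 1 + -1 = i by ring,
    show i + 1 + -2 = i - 1 by ring] at h0 h1
  have e2 : sg mul (D.a (i + 1)) (D.a (i + 3)) = sg mul (D.a (i - 1)) (D.a (i + 1)) := by
    have e3 := D.S_two_step (i - 1)
    rwa [show i - 1 + 2 = i + 1 by ring, show i - 1 + 4 = i + 3 by ring] at e3
  rw [e2] at h1
  linear_combination (norm := module) h0 + h1

theorem exists_period : ∃ n : ℕ, 1 ≤ n ∧ n ≤ 6 ∧ B (D.a 0) (D.a n) = 1 := by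
  have g0 : B (D.a 0) (D.a 0) = 1 := D.unit 0
  have g1 : B (D.a 0) (D.a 1) = D.lam := rfl
  have g2 : B (D.a 0) (D.a 2) = D.e := rfl
  have g3 : B (D.a 0) (D.a 3) = D.f := rfl
  have gn : ∀ k : ℤ, B (D.a 0) (D.a (-k)) = B (D.a 0) (D.a k) := fun k => by
    simpa using D.B_refl 0 0 k
  have h4 := congrArg (fun x => B (D.a 0) x) (D.four_step 0)
  have h5 := congrArg (fun x => B (D.a 0) x) (D.four_step 1)
  have h6 := congrArg (fun x => B (D.a 0) x) (D.four_step 2)
  simp only [map_add, map_sub, map_smul, smul_eq_mul] at h4 h5 h6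
  norm_num only at h4 h5 h6
  simp only [gn, g0, g1, g2, g3, D.f_eq] at h4 h5 h6
  have ha := D.eq_one
  have hb := D.eq_two
  rcases D.lam_cases with hl | hl | hl | hl | hl | hl | hl | hl <;> simp only [hl] at ha hb h4 h5 h6
  · exact ⟨1, le_refl _, by omega, by simp [g1, hl]⟩
  · refine ⟨2, by omega, by omega, ?_⟩
    rw [Nat.cast_ofNat, g2]
    linear_combination (-28672 / 11115 : ℝ) * ha + (-8192 / 100035 : ℝ) * hb
  · refine ⟨2, by omega, by omega, ?_⟩
    rw [Nat.cast_ofNat, g2]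
    linear_combination (2093056 / 26325 : ℝ) * ha + (401408 / 26325 : ℝ) * hb
  · have he : D.e = 13 / 256 := by
      linear_combination (-2916352 / 300105 : ℝ) * ha + (-917504 / 1500525 : ℝ) * hb
    refine ⟨3, by omega, by omega, ?_⟩
    rw [Nat.cast_ofNat, g3, D.f_eq, hl, he]
    norm_num
  · have he : (D.e - 1 / 8) * (D.e - 1 / 64) = 0 := by
      linear_combination (-224 / 9 : ℝ) * ha
    rcases mul_eq_zero.1 he with he | he
    · have he' : D.e = 1 / 8 := sub_eq_zero.1 he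
      refine ⟨4, by omega, by omega, ?_⟩
      rw [Nat.cast_ofNat, h4, he']
      norm_num
    · have he' : D.e = 1 / 64 := sub_eq_zero.1 he
      refine ⟨3, by omega, by omega, ?_⟩
      rw [Nat.cast_ofNat, g3, D.f_eq, hl, he']
      norm_num
  · have he : D.e = 0 := by
      linear_combination (-315392 / 12555 : ℝ) * ha + (-401408 / 188325 : ℝ) * hb
    refine ⟨4, by omega, by omega, ?_⟩
    rw [Nat.cast_ofNat, h4, he]
    norm_num
  · have he : D.e = 3 / 128 := by
      linear_combination (-290816 / 5265 : ℝ) * ha + (-28672 / 5265 : ℝ) * hb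
    refine ⟨5, by omega, by omega, ?_⟩
    rw [Nat.cast_ofNat, h5, h4, he]
    norm_num
  · have he : D.e = 13 / 256 := by
      linear_combination (-6651904 / 56475 : ℝ) * ha + (-6422528 / 508275 : ℝ) * hb
    refine ⟨6, by omega, by omega, ?_⟩
    rw [Nat.cast_ofNat, h6, h5, h4, he]
    norm_num

theorem exists_repeat : ∃ n : ℕ, 1 ≤ n ∧ n ≤ 6 ∧ D.a n = D.a 0 := by
  obtain ⟨n, h1, h6, hn⟩ := D.exists_period
  refine ⟨n, h1, h6, ?_⟩
  by_contra hne
  have hpos := D.amb.2.2.1 (D.a n - D.a 0) (sub_ne_zero.2 hne)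
  simp only [map_sub, LinearMap.sub_apply, D.unit, hn, D.Bsymm (D.a n) (D.a 0)] at hpos
  norm_num at hpos

end Dih

end

end Cfsg.Agent.Sakuma
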