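import Cfsg.Agent.Lib.Sakuma.Dih

/-!
# The resurrection computations
-/

set_option autoImplicit false
set_option linter.unusedSectionVars false
set_option maxHeartbeats 1000000

namespace Cfsg.Agent.Sakuma

open Cfsg.Axial Cfsg.Agent.AxialPair

noncomputable section

universe u

variable {V : Type u} [AddCommGroup V] [Module ℝ V]
variable {mul : V →ₗ[ℝ] V →ₗ[ℝ] V} {B : LinearMap.BilinForm ℝ V}

namespace Dih

variable (D : Dih mul B)

theorem Smn : D.S 0 (-1) = D.S1 := D.S_adj (Or.inr (by ring))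

theorem Szm : D.S 0 (-2) = D.S 0 2 := by
  simpa using D.S_refl 0 2

theorem a_S_sym (i j : ℤ) :
    mul (D.a i) (D.a j) = D.S i j + (1 / 32 : ℝ) • (D.a i + D.a j) := D.mul_eq_S i j

theorem B_S1_a (i : ℤ) : B D.S1 (D.a i) = (31 * D.lam - 1) / 32 := by
  rw [D.Bsymm, ← D.S_one i, D.B_a_S, D.B_one]

theorem comp0 : Comp mul B D.lam (D.a 0) (D.a 1) (D.a (-1)) := by
  simpa [lam] using D.comp 0 1

theorem sg01 : sg mul (D.a 0) (D.a 1) = D.S1 := rfl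

theorem B_v_v : B (vvec mul D.lam (D.a 0) (D.a 1) (D.a (-1)))
      (vvec mul D.lam (D.a 0) (D.a 1) (D.a (-1))) =
    4 * ((31 * D.lam - 1) / 32) + (1 / 8 - 4 * D.lam) * D.lam +
      (1 / 16) * (1 + B (D.a (-1)) (D.a 1)) := by
  rw [← D.comp0.hBv _ D.comp0.hv]
  simp only [vvec, sg01, map_add, map_smul, LinearMap.add_apply, LinearMap.smul_apply, D.B_S1_a,
    D.unit, smul_eq_mul]
  rw [show B (D.a 0) (D.a 1) = D.lam from rfl]

theorem p00 : mul (D.a 0) (D.a 0) = D.a 0 := D.idem 0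

theorem p11 : mul (D.a 1) (D.a 1) = D.a 1 := D.idem 1

theorem pmm : mul (D.a (-1)) (D.a (-1)) = D.a (-1) := D.idem _

theorem p01 : mul (D.a 0) (D.a 1) = D.S1 + (1 / 32 : ℝ) • (D.a 0 + D.a 1) := by
    rw [D.mul_eq_S, D.S_adj (Or.inl (by ring))]

theorem p10 : mul (D.a 1) (D.a 0) = D.S1 + (1 / 32 : ℝ) • (D.a 0 + D.a 1) := by rw [D.comm, D.p01]

theorem p0m : mul (D.a 0) (D.a (-1)) = D.S1 + (1 / 32 : ℝ) • (D.a 0 + D.a (-1)) := by
    rw [D.mul_eq_S, D.Smn]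

theorem pm0 : mul (D.a (-1)) (D.a 0) = D.S1 + (1 / 32 : ℝ) • (D.a 0 + D.a (-1)) := by
    rw [D.comm, D.p0m]

theorem p1m : mul (D.a 1) (D.a (-1)) = D.S (-1) 1 + (1 / 32 : ℝ) • (D.a 1 + D.a (-1)) := by
    rw [D.mul_eq_S, D.S_comm]

theorem pm1 : mul (D.a (-1)) (D.a 1) = D.S (-1) 1 + (1 / 32 : ℝ) • (D.a 1 + D.a (-1)) := by
    rw [D.comm, D.p1m]

theorem p02 : mul (D.a 0) (D.a 2) = D.S 0 2 + (1 / 32 : ℝ) • (D.a 0 + D.a 2) := D.mul_eq_S 0 2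

theorem p0n : mul (D.a 0) (D.a (-2)) = D.S 0 2 + (1 / 32 : ℝ) • (D.a 0 + D.a (-2)) := by
    rw [D.mul_eq_S, D.Szm]

theorem s0 : mul (D.a 0) D.S1 = (3 * D.lam / 4 - 25 / 1024) • D.a 0 +
    (7 / 32 : ℝ) • D.S1 + (7 / 2048 : ℝ) • (D.a 1 + D.a (-1)) := by
  simpa using D.a_S1 0

theorem s1 : mul (D.a 1) D.S1 = (3 * D.lam / 4 - 25 / 1024) • D.a 1 +
    (7 / 32 : ℝ) • D.S1 + (7 / 2048 : ℝ) • (D.a 2 + D.a 0) := by
  simpa using D.a_S1 1

theorem sm : mul (D.a (-1)) D.S1 = (3 * D.lam / 4 - 25 / 1024) • D.a (-1) +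
    (7 / 32 : ℝ) • D.S1 + (7 / 2048 : ℝ) • (D.a 0 + D.a (-2)) := by
  simpa using D.a_S1 (-1)

theorem s0' : mul D.S1 (D.a 0) = (3 * D.lam / 4 - 25 / 1024) • D.a 0 +
    (7 / 32 : ℝ) • D.S1 + (7 / 2048 : ℝ) • (D.a 1 + D.a (-1)) := (D.comm _ _).trans D.s0

theorem s1' : mul D.S1 (D.a 1) = (3 * D.lam / 4 - 25 / 1024) • D.a 1 +
    (7 / 32 : ℝ) • D.S1 + (7 / 2048 : ℝ) • (D.a 2 + D.a 0) := (D.comm _ _).trans D.s1

theorem sm' : mul D.S1 (D.a (-1)) = (3 * D.lam / 4 - 25 / 1024) • D.a (-1) +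
    (7 / 32 : ℝ) • D.S1 + (7 / 2048 : ℝ) • (D.a 0 + D.a (-2)) := (D.comm _ _).trans D.sm

theorem aSo_raw : mul (D.a 0) (D.S (-1) 1) =
    ((-19 / 48) + (32 / 3) * D.lam : ℝ) • D.S1 + ((7 / 96) : ℝ) • D.S 0 2 +
    ((-19 / 3072) + (1 / 6) * D.lam : ℝ) • D.a (-1) + ((7 / 6144) : ℝ) • D.a (-2) +
    ((-127 / 3072) + (-1 / 24) * B (D.a (-1)) (D.a 1) + (5 / 3) * D.lam +
      (-32 / 3) * D.lam ^ 2 : ℝ) • D.a 0 +
    ((-19 / 3072) + (1 / 6) * D.lam : ℝ) • D.a 1 + ((7 / 6144) : ℝ) • D.a 2 := by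
  have h00 := mul_zero_zero (D.pair 0) D.comp0.hu D.comp0.hu
  have h44 := quarter_mul_quarter D.amb (D.pair 0) (D.unit 0) D.comp0.hv D.comp0.hv
  rw [D.B_v_v] at h44
  simp only [uvec, sg01, map_add, map_smul, LinearMap.add_apply, LinearMap.smul_apply, D.p00,
    D.p11, D.pmm, D.p01, D.p10, D.p0m, D.pm0, D.p1m, D.pm1, D.p02, D.p0n, D.s0, D.s1, D.sm,
    D.s0', D.s1', D.sm'] at h00
  simp only [vvec, sg01, map_add, map_smul, LinearMap.add_apply, LinearMap.smul_apply, D.p00,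
    D.p11, D.pmm, D.p01, D.p10, D.p0m, D.pm0, D.p1m, D.pm1, D.p02, D.p0n, D.s0, D.s1, D.sm,
    D.s0', D.s1', D.sm'] at h44
  linear_combination (norm := module) (8 / 3 : ℝ) • h00 - (8 / 3 : ℝ) • h44

/-- The inner product of second neighbours. -/
def e : ℝ := B (D.a 0) (D.a 2)

theorem B_odd_pair : B (D.a (-1)) (D.a 1) = D.e := by
  have h := congrArg (fun x => B (D.a 0) x) D.aSo_raw
  simp only [D.assoc, D.idem] at h
  have hX : B (D.a 0) (D.S (-1) 1) =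
      (31 * D.lam - 1) / 32 + (D.lam + B (D.a (-1)) (D.a 1)) / 32 - D.lam / 16 := by
    unfold S sg
    rw [map_sub, map_smul, map_add, D.assoc, D.p0m, map_add, map_smul, map_add,
      LinearMap.add_apply, LinearMap.smul_apply, LinearMap.add_apply, D.B_S1_a,
      D.B_adj (i := 0) (j := -1) (Or.inr (by ring)), D.B_adj (i := 0) (j := 1) (Or.inl (by ring)),
      smul_eq_mul, smul_eq_mul]
    ring
  have h02 : B (D.a 0) (D.a (-2)) = B (D.a 0) (D.a 2) := by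
    simpa using D.B_refl 0 0 2
  have hs : B (D.a 0) D.S1 = (31 * D.lam - 1) / 32 := by rw [D.Bsymm, D.B_S1_a]
  simp only [map_add, map_smul, hX, hs, D.B_a_S, h02, D.unit,
    D.B_adj (i := 0) (j := -1) (Or.inr (by ring)), D.B_adj (i := 0) (j := 1) (Or.inl (by ring)),
    smul_eq_mul] at h
  rw [e]
  linarith

theorem B_two (i : ℤ) : B (D.a i) (D.a (i + 2)) = D.e := by
  induction i using Int.induction_on with
  | zero => simp [e]
  | succ n ih =>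
    have h := (D.shift ((n : ℤ) + 1)).B_odd_pair
    simp only [shift, e] at h
    ring_nf at h ih ⊢
    rw [← h]
    exact ih
  | pred n ih =>
    have h := (D.shift (-(n : ℤ))).B_odd_pair
    simp only [shift, e] at h
    ring_nf at h ih ⊢
    rw [h]
    exact ih

theorem shift_e (k : ℤ) : (D.shift k).e = D.e := by
  simpa [e, shift] using D.B_two k

theorem flip_e : D.flip.e = D.e := by
  have h := D.B_two (-2)
  rw [D.Bsymm] at h
  simpa [e, flip] using h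

theorem aSo : mul (D.a 0) (D.S (-1) 1) =
    ((-19 / 48) + (32 / 3) * D.lam : ℝ) • D.S1 + ((7 / 96) : ℝ) • D.S 0 2 +
    ((-19 / 3072) + (1 / 6) * D.lam : ℝ) • D.a (-1) + ((7 / 6144) : ℝ) • D.a (-2) +
    ((-127 / 3072) + (-1 / 24) * D.e + (5 / 3) * D.lam + (-32 / 3) * D.lam ^ 2 : ℝ) • D.a 0 +
    ((-19 / 3072) + (1 / 6) * D.lam : ℝ) • D.a 1 + ((7 / 6144) : ℝ) • D.a 2 := by
  rw [D.aSo_raw, D.B_odd_pair]

theorem SS : mul D.S1 D.S1 =
    ((-13 / 1536) + (-5 / 12) * D.lam : ℝ) • D.S1 + ((-7 / 1536) : ℝ) • D.S 0 2 +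
    ((7 / 2048) : ℝ) • D.S (-1) 1 +
    ((-245 / 196608) + (49 / 768) * D.lam : ℝ) • D.a (-1) + ((49 / 196608) : ℝ) • D.a (-2) +
    ((-7 / 98304) + (7 / 1536) * D.e + (-7 / 384) * D.lam + (7 / 6) * D.lam ^ 2 : ℝ) • D.a 0 +
    ((-245 / 196608) + (49 / 768) * D.lam : ℝ) • D.a 1 + ((49 / 196608) : ℝ) • D.a 2 := by
  have h00 := mul_zero_zero (D.pair 0) D.comp0.hu D.comp0.hu
  have h04 := mul_zero_quarter (D.pair 0) D.comp0.hu D.comp0.hv
  simp only [uvec, vvec, sg01, map_add, map_smul, LinearMap.add_apply, LinearMap.smul_apply,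
    D.p00, D.p11, D.pmm, D.p01, D.p10, D.p0m, D.pm0, D.p1m, D.pm1, D.p02, D.p0n, D.s0, D.s1, D.sm,
    D.s0', D.s1', D.sm', D.aSo] at h00 h04
  linear_combination (norm := module) (1 / 4 : ℝ) • h00 + (1 / 4 : ℝ) • h04

theorem So_step : D.S (-1) 1 = D.S 1 3 := by
  simpa using (D.S_two_step (-1)).symm

theorem a_three : D.a 3 =
    ((-32) : ℝ) • D.S 0 2 + ((32) : ℝ) • D.S (-1) 1 +
    ((-6) + (256) * D.lam : ℝ) • D.a (-1) + ((1) : ℝ) • D.a (-2) +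
    ((33 / 7) + (128 / 7) * D.e + (-2304 / 7) * D.lam + (32768 / 7) * D.lam ^ 2 : ℝ) • D.a 0 +
    ((-33 / 7) + (-128 / 7) * D.e + (2304 / 7) * D.lam + (-32768 / 7) * D.lam ^ 2 : ℝ) • D.a 1 +
    ((6) + (-256) * D.lam : ℝ) • D.a 2 := by
  have h := (D.shift 1).SS
  rw [D.shift_S1, D.shift_lam, D.shift_e, D.SS] at h
  simp only [shift, S] at h
  norm_num only at h
  simp only [show sg mul (D.a 1) (D.a 3) = D.S 1 3 from rfl,
    show sg mul (D.a 0) (D.a 2) = D.S 0 2 from rfl,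
    show sg mul (D.a (-1)) (D.a 1) = D.S (-1) 1 from rfl, ← D.So_step] at h
  linear_combination (norm := module) (-196608 / 49 : ℝ) • h

end Dih

end

end Cfsg.Agent.Sakuma
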